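import Cfsg.Agent.Lib.Sporadic.J2Perm.Main

/-!
# The letters of the presentation inside the Hall–Janko permutation group: generated data
-/

set_option autoImplicit false
set_option maxRecDepth 100000

namespace CfsgLib.JTwoRecog

/-- The codes of the nine letters. -/
def modelCodes : List ℕ := [
  1750852940330085114759597464168665716969990510816555353195468585471333226476502358013702751749325698059739218955222916682435016414935378218459229672336169739288345708814513013332236225688187449900797378033576524748887028163799023846050571560,
  2169865341103077391166798577495963130030724909730824831194317194090768025806422664173418369035277132586376094913703617716917322646095293466918651108798878966938584865928606712561776015230994777562703838722168303263508449099991862216721504835,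
  2171896261435851845634118566228467060661905661355175825024458605012776842549869234808993190198128923328840361069887559869508410992329610853026350622040683916601262528441732032993717266274113990924454011905790040933758940506498989555829578240,
  2171904986515532751356800123103503151407645334745733942444722631897742505122842184548713284768738795531420304894253478592199684368079390314032723220930186014854370975481924092778114374773511726851803319970557443802455329314258842938465279055,
  1721062898782883004380659226987797624136603987347070387897287069613840237965338605824745651355645227106364824235280013156762115489379916906113728458533572374888687559913734340842407205939879096552613861023519064450454764319952186354046286345,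
  2586004186449388777503141101431183044174786769867392686398492137291487938991653047402845358218071496075771169643679950622904788307736954425436832460524436046298757872553853702914917375744331742054609349938302509337183775162737958838562526720,
  2583864394233086310828467859357881267741375920813847004808899521629941278488751088201278207891205656120385380827184569561113088732886303136824895505680521651498978069590713653023383559502886216950077230888775189442749499495794889597250635520,
  2215947461189975248076377588650507215269973738221661874226466049261985157174830448315364892635312701123178532756194279457959576496638416705675286993146025537702076762547737545575017323168768452037544356464675561868754133673412296877751282715,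
  1146295237746471458241819024393338533306732550597585030613387902251371888431567440743560379341327047439848784762648573527302949353544823011792406891895017123112063586039513584479390632751664172048469162341272321192486622275999561771744429840]

/-- The two generators as words in the letters. -/
def modelWords : List (List ℕ) := [[1, 1, 7, 3, 0, 0, 7, 4], [4, 8, 3, 0, 5, 7, 3, 1, 8, 3, 1]]

/-- The nine letters as words in the two generators. -/
def modelInWords : List (List ℕ) := [[1, 1, 0, 1, 1, 0, 1, 1, 0, 1, 1, 0, 0, 1, 1, 0, 0], [0, 0, 1, 1, 1, 0, 1, 1, 1, 0, 0, 0, 0, 1, 1, 0, 1, 1, 1], [1, 0, 1, 0, 0, 0, 0, 1, 1, 0, 1, 0, 1, 1, 1, 0, 0], [0, 1, 0, 1, 0, 1, 1, 0, 0, 1, 1], [1, 1, 1, 1, 0, 1, 0, 0, 1, 1, 0, 1], [0, 0, 1, 0, 0, 0, 0, 1, 0, 0, 1, 0, 0, 0, 1, 0, 0, 0, 1], [1, 0, 1, 0, 1, 1, 1, 1, 0, 1, 0, 1, 0, 0, 1, 0, 1, 0, 0], [1, 0, 0, 1, 0, 1, 1, 0, 0, 1, 0, 0, 1], [1, 0, 1, 0, 0, 1, 1, 0, 1, 0, 1, 0, 1]]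

end CfsgLib.JTwoRecog
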