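import Cfsg.Agent.Lib.JTwoRecog.Bound
import Cfsg.Agent.Lib.JTwoRecog.ModelData

/-!
# A group with the relations of the presentation and of order 604800 is the Hall–Janko group
-/

set_option autoImplicit false

namespace CfsgLib.JTwoRecog

open CfsgLib.Comp CfsgLib.Comp.PermCode CfsgLib.J2Perm

universe u

/-- The code of a word in given coded permutations. -/
noncomputable def codeWord (L : List ℕ) (l : List ℕ) : ℕ :=
  l.foldr (fun x c => PermCode.mul 100 (L.getD x (PermCode.one 100)) c) (PermCode.one 100)

theorem codeAux_spec {n : ℕ} (hn : n ≤ 256) {L : List ℕ} (hL : ∀ t ∈ L, okb n t = true) (l : List ℕ) :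
    Ok n (l.foldr (fun x c => PermCode.mul n (L.getD x (PermCode.one n)) c) (PermCode.one n)) ∧
      val n (l.foldr (fun x c => PermCode.mul n (L.getD x (PermCode.one n)) c) (PermCode.one n)) =
        (l.map fun x => val n (L.getD x (PermCode.one n))).prod := by
  induction l with
  | nil => exact ⟨ok_one hn, val_one hn⟩
  | cons x l ih =>
    have hx : Ok n (L.getD x (PermCode.one n)) := by
      by_cases hi : x < L.length
      · rw [List.getD_eq_getElem _ _ hi]
        exact ok_of_okb (hL _ (List.getElem_mem hi))
      · rw [List.getD_eq_default _ _ (Nat.le_of_not_lt hi)]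
        exact ok_one hn
    rw [List.foldr_cons, List.map_cons, List.prod_cons]
    exact ⟨ok_mul hn hx ih.1, by rw [val_mul hn hx ih.1, ih.2]⟩

theorem codeWord_spec {L : List ℕ} (hL : ∀ t ∈ L, okb 100 t = true) (l : List ℕ) :
    Ok 100 (codeWord L l) ∧
      val 100 (codeWord L l) = (l.map fun x => val 100 (L.getD x (PermCode.one 100))).prod :=
  codeAux_spec (by norm_num) hL l

/-- The letters inside the permutation group. -/
noncomputable def modelLetter (x : ℕ) : Equiv.Perm (Fin 100) :=
  val 100 (modelCodes.getD x (PermCode.one 100))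

theorem model_ok : ∀ t ∈ modelCodes, okb 100 t = true := by decide +kernel

theorem genCodes_ok : ∀ t ∈ j2Gens, okb 100 t = true := by decide +kernel

theorem model_inv : ∀ x < 16, Nat.beq (codeWord modelCodes [CosetEnum.linv ip x, x]) (PermCode.one 100) = true := by
  decide +kernel

theorem model_rel : (rels.all fun l => Nat.beq (codeWord modelCodes l) (PermCode.one 100)) = true := by
  decide +kernel

theorem model_in : ((List.range 9).all fun x =>
    Nat.beq (codeWord j2Gens (modelInWords.getD x [])) (modelCodes.getD x 0)) = true := by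
  decide +kernel

theorem model_gen : ((List.range 2).all fun i =>
    Nat.beq (codeWord modelCodes (modelWords.getD i [])) (j2Gens.getD i 0)) = true := by
  decide +kernel

theorem model_gen_bound : ∀ i < 2, ∀ x ∈ modelWords.getD i [], x < 16 := by decide +kernel

theorem modelLetter_high {x : ℕ} (hx : 9 ≤ x) : modelLetter x = 1 := by
  rw [modelLetter, List.getD_eq_default _ _ (show modelCodes.length ≤ x from hx), val_one (by norm_num)]

theorem modelLetter_mem (x : ℕ) : modelLetter x ∈ J2sub := by
  rcases Nat.lt_or_ge x 9 with hx | hx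
  · have h := List.all_eq_true.mp model_in x (List.mem_range.mpr hx)
    have hc : modelCodes.getD x (PermCode.one 100) = modelCodes.getD x 0 := by
      rw [List.getD_eq_getElem _ _ (show x < modelCodes.length from hx),
        List.getD_eq_getElem _ _ (show x < modelCodes.length from hx)]
    rw [modelLetter, hc, ← Nat.eq_of_beq_eq_true h, (codeWord_spec genCodes_ok _).2]
    refine list_prod_mem fun y hy => ?_
    obtain ⟨i, -, rfl⟩ := List.mem_map.mp hy
    by_cases hi : i < j2Gens.length
    · rw [List.getD_eq_getElem _ _ hi]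
      exact one_le 100 _ (List.getElem_mem hi)
    · rw [List.getD_eq_default _ _ (Nat.le_of_not_lt hi), val_one (by norm_num)]
      exact one_mem _
  · rw [modelLetter_high hx]
    exact one_mem _

/-- The letters as elements of the Hall–Janko permutation group. -/
noncomputable def model (x : ℕ) : J2sub := ⟨modelLetter x, modelLetter_mem x⟩

theorem coe_prod_model (l : List ℕ) :
    (((l.map model).prod : J2sub) : Equiv.Perm (Fin 100)) = val 100 (codeWord modelCodes l) := by
  rw [(codeWord_spec model_ok l).2, SubmonoidClass.coe_list_prod, List.map_map]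
  rfl

theorem prod_model_eq_one {l : List ℕ} (h : Nat.beq (codeWord modelCodes l) (PermCode.one 100) = true) :
    (l.map model).prod = 1 :=
  Subtype.ext (by rw [coe_prod_model, Nat.eq_of_beq_eq_true h, val_one (by norm_num), OneMemClass.coe_one])

theorem isSystem_model : IsSystem model := by
  refine ⟨fun x hx => Subtype.ext (modelLetter_high hx), fun x hx => ?_, fun l hl => ?_⟩
  · have h := prod_model_eq_one (model_inv x hx)
    simp only [List.map_cons, List.map_nil, List.prod_cons, List.prod_nil, mul_one] at h
    exact eq_inv_of_mul_eq_one_left h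
  · exact prod_model_eq_one (List.all_eq_true.mp model_rel l hl)

theorem span_model : span model = ⊤ := by
  rw [eq_top_iff]
  rintro ⟨y, hy⟩ -
  suffices h : J2sub ≤ (span model).map J2sub.subtype by
    obtain ⟨z, hz, he⟩ := h hy
    exact (Subtype.ext he : z = ⟨y, hy⟩) ▸ hz
  show PermCode.span 100 j2Gens ≤ _
  unfold PermCode.span
  rw [Subgroup.closure_le]
  rintro _ ⟨s, hs, rfl⟩
  obtain ⟨i, hi, rfl⟩ := List.getElem_of_mem hs
  have hi2 : i < 2 := hi
  refine ⟨((modelWords.getD i []).map model).prod, list_prod_mem fun z hz => ?_, ?_⟩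
  · obtain ⟨x, hx, rfl⟩ := List.mem_map.mp hz
    exact mem_span (model_gen_bound i hi2 x hx)
  · have h := Nat.eq_of_beq_eq_true (List.all_eq_true.mp model_gen i (List.mem_range.mpr hi2))
    rw [List.getD_eq_getElem _ _ hi] at h
    rw [Subgroup.coe_subtype, coe_prod_model, h]

/-- A group of order 604800 with the relations of the presentation is the Hall–Janko group. -/
theorem iso_of_system {G : Type u} [Group G] {g : ℕ → G} (h : IsSystem g) (hne : g 0 ≠ 1)
    (hG : Nat.card G = 604800) : Nonempty (G ≃* J2sub) := by
  haveI : Finite G := Nat.finite_of_card_ne_zero (by rw [hG]; norm_num)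
  haveI := J2Perm.isJ2.1
  let gp : ℕ → G × J2sub := fun x => (g x, model x)
  have hp1 : ∀ l : List ℕ, ((l.map gp).prod) = ((l.map g).prod, (l.map model).prod) := by
    intro l
    induction l with
    | nil => rfl
    | cons x l ih => simp [ih, gp, Prod.ext_iff]
  have hsys : IsSystem gp :=
    ⟨fun x hx => Prod.ext (h.high x hx) (isSystem_model.high x hx),
      fun x hx => Prod.ext (h.inv x hx) (isSystem_model.inv x hx),
      fun l hl => by rw [hp1, h.rel l hl, isSystem_model.rel l hl]; rfl⟩
  obtain ⟨hfin, hle⟩ := card_span_le hsys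
  set K := span gp with hK
  have hmap₁ : K.map (MonoidHom.fst G J2sub) = span g := by
    rw [hK, span, MonoidHom.map_closure, ← Set.image_comp]
    rfl
  have hmap₂ : K.map (MonoidHom.snd G J2sub) = ⊤ := by
    rw [hK, span, MonoidHom.map_closure, ← Set.image_comp, ← span_model]
    rfl
  let f₁ : K →* G := (MonoidHom.fst G J2sub).comp K.subtype
  let f₂ : K →* J2sub := (MonoidHom.snd G J2sub).comp K.subtype
  have hs₂ : Function.Surjective f₂ := by
    intro y
    obtain ⟨z, hz, rfl⟩ : y ∈ K.map (MonoidHom.snd G J2sub) := hmap₂ ▸ Subgroup.mem_top y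
    exact ⟨⟨z, hz⟩, rfl⟩
  have hb₂ : Function.Bijective f₂ := (Nat.bijective_iff_surjective_and_card f₂).mpr
    ⟨hs₂, le_antisymm (hle.trans_eq card_J2sub.symm) (Nat.card_le_card_of_surjective f₂ hs₂)⟩
  let φ : J2sub →* G := f₁.comp (MulEquiv.ofBijective f₂ hb₂).symm.toMonoidHom
  have hinj : Function.Injective φ := by
    rcases (inferInstance : φ.ker.Normal).eq_bot_or_eq_top with hk | hk
    · exact φ.ker_eq_bot_iff.mp hk
    · exfalso
      apply hne
      obtain ⟨z, hz, hzg⟩ : g 0 ∈ K.map (MonoidHom.fst G J2sub) := hmap₁ ▸ mem_span (by norm_num)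
      have hmem : (MulEquiv.ofBijective f₂ hb₂) ⟨z, hz⟩ ∈ φ.ker := hk ▸ Subgroup.mem_top _
      rw [MonoidHom.mem_ker] at hmem
      rw [← hzg, ← hmem]
      show z.1 = f₁ ((MulEquiv.ofBijective f₂ hb₂).symm ((MulEquiv.ofBijective f₂ hb₂) ⟨z, hz⟩))
      rw [MulEquiv.symm_apply_apply]
      rfl
  exact ⟨(MulEquiv.ofBijective φ ((Nat.bijective_iff_injective_and_card φ).mpr
    ⟨hinj, by rw [card_J2sub, hG]⟩)).symm⟩

end CfsgLib.JTwoRecog
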