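import Cfsg.Agent.Lib.JTwoRecog.Cert
import Cfsg.Agent.Lib.JTwoRecog.Mid
import Cfsg.Agent.Lib.JTwoRecog.Bot

/-!
# A presentation of the Hall–Janko group: the order bound
-/

set_option autoImplicit false

namespace CfsgLib.JTwoRecog

open CfsgLib.CosetEnum

universe u

variable {G : Type u} [Group G]

/-- The letters made from six elements. -/
def letters (d w v p q e : G) : ℕ → G
  | 0 => d
  | 1 => d⁻¹
  | 2 => w
  | 3 => v
  | 4 => p
  | 5 => q
  | 6 => q⁻¹
  | 7 => e
  | 8 => e⁻¹
  | _ => 1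

/-- The letters satisfy the relations of the presentation. -/
structure IsSystem (g : ℕ → G) : Prop where
  high : ∀ x, 9 ≤ x → g x = 1
  inv : ∀ x < 16, g (linv ip x) = (g x)⁻¹
  rel : ∀ l ∈ rels, (l.map g).prod = 1

theorem isSystem_letters {d w v p q e : G} (hw : w * w = 1) (hv : v * v = 1) (hp : p * p = 1)
    (hr : ∀ l ∈ rels, (l.map (letters d w v p q e)).prod = 1) : IsSystem (letters d w v p q e) := by
  have hhigh : ∀ x, 9 ≤ x → letters d w v p q e x = 1 := by
    intro x hx
    match x, hx with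
    | n + 9, _ => rfl
  have hip : ∀ x < 16, linv ip x = [1, 0, 2, 3, 4, 6, 5, 8, 7, 9, 10, 11, 12, 13, 14, 15].getD x 0 := by
    decide +kernel
  refine ⟨hhigh, fun x hx => ?_, hr⟩
  rw [hip x hx]
  interval_cases x <;>
    simp [letters, inv_eq_of_mul_eq_one_right hw, inv_eq_of_mul_eq_one_right hv,
      inv_eq_of_mul_eq_one_right hp]

/-- The group generated by the letters. -/
def span (g : ℕ → G) : Subgroup G := Subgroup.closure (g '' Set.Iio 16)

theorem mem_span {g : ℕ → G} {x : ℕ} (hx : x < 16) : g x ∈ span g :=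
  Subgroup.subset_closure ⟨x, hx, rfl⟩

/-- The letters of the middle subgroup. -/
def keyMid (x : ℕ) : ℕ := [2, 3, 4, 5, 6, 7, 8].getD x 15

/-- The letters of the bottom subgroup. -/
def keyBot (x : ℕ) : ℕ := [4, 5, 6, 7, 8].getD x 15

/-- A certificate for some of the letters. -/
theorem covers_sub {g : ℕ → G} (h : IsSystem g) (key : ℕ → ℕ) (ip' nl : ℕ) (rels' sub : List (List ℕ))
    (c : Letters.Cert) (hc : c.check ip' nl sub rels' = true) (hnl : nl ≤ 9)
    (hlt : ∀ x < 16, key x < 16) (hhi : ∀ x < 16, nl ≤ x → 9 ≤ key x)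
    (hinv : ∀ x < 16, key (linv ip' x) = linv ip (key x))
    (hrel : ∀ l ∈ rels', (∀ x ∈ l, x < 16) ∧ l.map key ∈ rels)
    (H : Subgroup G) (hsub : ∀ l ∈ sub, (∀ x ∈ l, x < 16) ∧ (l.map (g ∘ key)).prod ∈ H) :
    CoversCosets (span (g ∘ key)) H c.n := by
  refine Letters.Cert.covers (g := g ∘ key) (h.high _ (hhi 15 (by norm_num) (by omega)))
    (fun x hx => ?_) (fun x hx => ?_) _ H le_rfl c hc (fun l hl => ⟨(hrel l hl).1, ?_⟩) hsub
  · show g (key _) = (g (key x))⁻¹
    rw [hinv x hx, h.inv _ (hlt x hx)]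
  · rcases Nat.lt_or_ge x nl with hx' | hx'
    · exact Or.inl hx'
    · exact Or.inr (h.high _ (hhi x hx hx'))
  · rw [← List.map_map]
    exact h.rel _ (hrel l hl).2

/-- The group generated by the letters has order at most 604800. -/
theorem card_span_le {g : ℕ → G} (h : IsSystem g) : Finite (span g) ∧ Nat.card (span g) ≤ 604800 := by
  have hB : Finite (span (g ∘ keyBot)) ∧ Nat.card (span (g ∘ keyBot)) ≤ 60 := by
    refine card_le_step (N := 60) (c := 1) (covers_sub h keyBot Bot.ip 5 Bot.rels Bot.subWords Bot.cert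
      Bot.check (by norm_num) (by decide +kernel) (by decide +kernel) (by decide +kernel) ?_ ⊥ ?_)
      ⟨inferInstance, (Subgroup.card_bot).le⟩ rfl
    · exact (show ∀ l ∈ Bot.rels, (∀ x ∈ l, x < 16) ∧ l.map keyBot ∈ rels by decide +kernel)
    · intro l hl
      simp [Bot.subWords] at hl
  have hM : Finite (span (g ∘ keyMid)) ∧ Nat.card (span (g ∘ keyMid)) ≤ 1920 := by
    refine card_le_step (N := 32) (c := 60) (covers_sub h keyMid Mid.ip 7 Mid.rels Mid.subWords Mid.cert
      Mid.check (by norm_num) (by decide +kernel) (by decide +kernel) (by decide +kernel) ?_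
      (span (g ∘ keyBot)) ?_) hB rfl
    · exact (show ∀ l ∈ Mid.rels, (∀ x ∈ l, x < 16) ∧ l.map keyMid ∈ rels by decide +kernel)
    · have key : ∀ l ∈ Mid.subWords, ∃ a < 7, ∃ b < 5, l = [a] ∧ keyMid a = keyBot b := by decide +kernel
      intro l hl
      obtain ⟨a, ha, b, hb, rfl, hab⟩ := key l hl
      refine ⟨by simp; omega, ?_⟩
      simp only [List.map_cons, List.map_nil, List.prod_cons, List.prod_nil, mul_one, Function.comp_apply]
      rw [hab]
      exact mem_span (g := g ∘ keyBot) (by omega)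
  refine card_le_step (N := 315) (c := 1920) (Letters.Cert.covers (g := g) (h.high 15 (by norm_num)) h.inv
    (fun x hx => ?_) (span g) (span (g ∘ keyMid)) le_rfl cert check (fun l hl => ⟨?_, h.rel l hl⟩) ?_) hM rfl
  · exact (Nat.lt_or_ge x 9).imp id (h.high x)
  · exact (show ∀ l ∈ rels, ∀ x ∈ l, x < 16 by decide +kernel) l hl
  · have key : ∀ l ∈ subWords, ∃ a < 9, ∃ b < 7, l = [a] ∧ a = keyMid b := by decide +kernel
    intro l hl
    obtain ⟨a, ha, b, hb, rfl, hab⟩ := key l hl
    refine ⟨by simp; omega, ?_⟩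
    simp only [List.map_cons, List.map_nil, List.prod_cons, List.prod_nil, mul_one]
    rw [hab]
    exact mem_span (g := g ∘ keyMid) (by omega)

end CfsgLib.JTwoRecog
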